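import Mathlib
import Groth.Prelude.Def_CInt
import Groth.Agent.H47.CMSlice.Gen
import Groth.Agent.H47.CI.AbsCI
import Groth.Agent.H39.RegSpread2

/-!
# Transversally regular immersions, ring level (helper47)

`A → B` flat of finite presentation, `I` an ideal of `B` with `B ⧸ I` flat over `A`, `q ⊇ I` a
prime such that the fibre local ring `B_q ⧸ p B_q` is regular and `I` generates in it an ideal
generated by a regular sequence.  Then `I` is generated by a regular sequence on a principal open
neighbourhood of `q`.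
-/

set_option autoImplicit false
set_option linter.unusedSectionVars false
set_option linter.style.haveILetI false
universe u

namespace Groth.Agent.H47.TransReg

open RingTheory.Sequence IsLocalRing Groth.Agent.H47.CI Groth.Agent.H47.CMSlice
  Groth.Agent.H49.FlatApprox

/-- generators of the extension of `I` to a regular local ring `R` can be chosen in `I`, forming a
regular sequence if the extension is generated by some regular sequence. -/
theorem exists_list_of_isRegular {B : Type u} [CommRing B] (I : Ideal B)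
    (R : Type u) [CommRing R] [IsRegularLocalRing R] (π : B →+* R)
    (hrs : ∃ rs : List R, IsRegular R rs ∧ I.map π = Ideal.ofList rs) :
    ∃ hs : List B, (∀ h ∈ hs, h ∈ I) ∧ IsRegular R (hs.map π) ∧
      Ideal.ofList (hs.map π) = I.map π := by
  classical
  have hN : I.map π ≠ ⊤ := by
    obtain ⟨rs, hreg, hI⟩ := hrs
    rw [hI]
    exact ofList_ne_top_of_isRegular R rs hreg
  obtain ⟨d, hd, -⟩ := Groth.Agent.Lead.RLR.exists_ringKrullDim_eq R
  haveI : Nontrivial (R ⧸ I.map π) := Ideal.Quotient.nontrivial_iff.mpr hN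
  haveI : IsLocalRing (R ⧸ I.map π) :=
    IsLocalRing.of_surjective' (Ideal.Quotient.mk _) Ideal.Quotient.mk_surjective
  obtain ⟨e, he, -⟩ := Groth.Agent.Lead.RLR.exists_ringKrullDim_eq (R ⧸ I.map π)
  have hnum := (exists_isRegular_iff R (I.map π) hN d e hd he).mp hrs
  -- choose generators among the images of elements of `I`
  let N : Ideal R := I.map π
  have hNfg : N.FG := IsNoetherian.noetherian N
  let G : Set N := {y | ∃ x ∈ I, π x = y.1}
  have hG : Submodule.span R G = ⊤ := by
    apply Submodule.map_injective_of_injective N.injective_subtype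
    rw [Submodule.map_subtype_top, Submodule.map_span]
    change Submodule.span R _ = Ideal.span _
    congr 1
    ext w
    constructor
    · rintro ⟨y, ⟨x, hx, hxy⟩, rfl⟩
      exact ⟨x, hx, hxy⟩
    · rintro ⟨x, hx, rfl⟩
      exact ⟨⟨π x, Ideal.mem_map_of_mem _ hx⟩, ⟨x, hx, rfl⟩, rfl⟩
  obtain ⟨t, htG, hcard, hspan⟩ := exists_finset_subset_span_eq_top N hNfg G hG
  choose f hfI hf using fun y : t => htG y.2
  let hs : List B := t.attach.toList.map f
  have hlen : hs.length = t.card := by
    rw [List.length_map, Finset.length_toList, Finset.card_attach]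
  have hmap : Ideal.ofList (hs.map π) = I.map π := by
    apply le_antisymm
    · rw [Ideal.ofList, Ideal.span_le]
      intro r hr
      obtain ⟨b, hb, rfl⟩ := List.mem_map.mp hr
      obtain ⟨y, -, rfl⟩ := List.mem_map.mp hb
      exact Ideal.mem_map_of_mem _ (hfI y)
    · have h1 : (Submodule.span R (t : Set N)).map N.subtype = N := by
        rw [hspan, Submodule.map_subtype_top]
      change N ≤ _
      rw [← h1, Submodule.map_span, Ideal.ofList]
      apply Submodule.span_mono
      rintro _ ⟨y, hy, rfl⟩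
      change N.subtype y ∈ {x | x ∈ hs.map π}
      refine List.mem_map.mpr ⟨f ⟨y, hy⟩, List.mem_map.mpr ⟨⟨y, hy⟩, ?_, rfl⟩, hf ⟨y, hy⟩⟩
      exact Finset.mem_toList.mpr (Finset.mem_attach _ _)
  refine ⟨hs, ?_, ?_, hmap⟩
  · intro h hh
    obtain ⟨y, -, rfl⟩ := List.mem_map.mp hh
    exact hfI y
  · apply isRegular_of_length_add_le R (hs.map π) (by rw [hmap]; exact hN) d e hd
      (by rw [hmap]; exact he)
    have hcard' : t.card ≤ (I.map π).spanFinrank := hcard
    have hlen' : (hs.map π).length = t.card := by rw [List.length_map]; exact hlen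
    rw [hlen']
    omega

/-- **Nakayama with flatness**: an ideal `K` of a local `A`-algebra `L` with `L ⧸ K` flat over
`A` is determined by its image in `L ⧸ 𝔞 L`. -/
theorem eq_of_le_sup_map_of_flat (A : Type u) [CommRing A] (L : Type u) [CommRing L]
    [IsLocalRing L] [Algebra A L] (𝔞 : Ideal A) (h𝔞 : 𝔞.map (algebraMap A L) ≤ maximalIdeal L)
    (K K' : Ideal L) (hK'K : K' ≤ K) (hfg : K.FG) [Module.Flat A (L ⧸ K)]
    (h : K ≤ K' ⊔ 𝔞.map (algebraMap A L)) : K = K' := by
  refine le_antisymm ?_ hK'K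
  refine Submodule.le_of_le_smul_of_le_jacobson_bot (I := maximalIdeal L) hfg
    (by rw [IsLocalRing.jacobson_eq_maximalIdeal ⊥ bot_ne_top]) ?_
  intro a ha
  obtain ⟨k', hk', z, hz, rfl⟩ := Submodule.mem_sup.mp (h ha)
  refine Submodule.add_mem_sup hk' ?_
  have hzK : z ∈ K := by
    have : z = (k' + z) - k' := by ring
    rw [this]
    exact K.sub_mem ha (hK'K hk')
  let f : L →ₗ[A] L ⧸ K := (Ideal.Quotient.mkₐ A K).toLinearMap
  have hsurj : Function.Surjective f := Ideal.Quotient.mk_surjective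
  have hker : ∀ w : L, w ∈ LinearMap.ker f ↔ w ∈ K := by
    intro w
    rw [LinearMap.mem_ker]
    exact Ideal.Quotient.eq_zero_iff_mem
  have key := LinearMap.ker_inf_smul_top_eq_smul_of_flat 𝔞 f hsurj
  have hz1 : z ∈ LinearMap.ker f ⊓ (𝔞 • (⊤ : Submodule A L)) := by
    refine ⟨(hker z).mpr hzK, ?_⟩
    rw [Ideal.smul_top_eq_map]
    exact hz
  rw [key] at hz1
  have hle : 𝔞 • LinearMap.ker f ≤ ((maximalIdeal L) • K).restrictScalars A := by
    rw [Submodule.smul_le]
    intro r hr k hk
    change r • k ∈ (maximalIdeal L) • K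
    have hrk : r • k = algebraMap A L r • k := by rw [Algebra.smul_def, smul_eq_mul]
    rw [hrk]
    exact Submodule.smul_mem_smul (h𝔞 (Ideal.mem_map_of_mem _ hr)) ((hker k).mp hk)
  exact hle hz1

/-- **Transversally regular ideals** (ring level, EGA IV 19.2-type statement). -/
theorem exists_away_regular (H : Hyp4848.{u}) (A : Type u) [CommRing A]
    (B : Type u) [CommRing B] [Algebra A B] [Algebra.FinitePresentation A B]
    (q : Ideal B) [q.IsPrime] (Bq : Type u) [CommRing Bq] [Algebra B Bq]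
    [IsLocalization.AtPrime Bq q] [IsLocalRing Bq] [Algebra A Bq] [IsScalarTower A B Bq]
    (hflat : Module.Flat A Bq)
    (I : Ideal B) (hIq : I ≤ q) (hIfg : I.FG) [Module.Flat A (B ⧸ I)]
    [IsRegularLocalRing (Bq ⧸ (q.comap (algebraMap A B)).map (algebraMap A Bq))]
    (hrs : ∃ rs : List (Bq ⧸ (q.comap (algebraMap A B)).map (algebraMap A Bq)),
      IsRegular (Bq ⧸ (q.comap (algebraMap A B)).map (algebraMap A Bq)) rs ∧
      (I.map (algebraMap B Bq)).map
        (Ideal.Quotient.mk ((q.comap (algebraMap A B)).map (algebraMap A Bq))) =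
          Ideal.ofList rs) :
    ∃ g : B, g ∉ q ∧ ∃ hs : List B, (∀ h ∈ hs, h ∈ I) ∧
      ∀ (Bg : Type u) [CommRing Bg] [Algebra B Bg] [IsLocalization.Away g Bg],
        IsWeaklyRegular Bg (hs.map (algebraMap B Bg)) ∧
          Ideal.ofList (hs.map (algebraMap B Bg)) = I.map (algebraMap B Bg) := by
  classical
  set 𝔪 : Ideal Bq := (q.comap (algebraMap A B)).map (algebraMap A Bq) with h𝔪
  let π : B →+* Bq ⧸ 𝔪 := (Ideal.Quotient.mk 𝔪).comp (algebraMap B Bq)
  have hIπ : I.map π = (I.map (algebraMap B Bq)).map (Ideal.Quotient.mk 𝔪) := by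
    rw [Ideal.map_map]
  obtain ⟨hs, hmemI, hreg, hgen⟩ := exists_list_of_isRegular I (Bq ⧸ 𝔪) π (by rw [hIπ]; exact hrs)
  have hmem : ∀ h ∈ hs, h ∈ q := fun h hh => hIq (hmemI h hh)
  have hlistπ : (hs.map (algebraMap B Bq)).map (Ideal.Quotient.mk 𝔪) = hs.map π := by
    rw [List.map_map]
    rfl
  have hregSeq : RegSeq 𝔪 (hs.map (algebraMap B Bq)) := by
    refine regSeq_of_map (Ideal.Quotient.mk 𝔪) Ideal.Quotient.mk_surjective _ 𝔪
      (by rw [Ideal.mk_ker]) ?_
    rw [Ideal.map_quotient_self, hlistπ]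
    exact regSeq_bot_of_isWeaklyRegular_self _ hreg.toIsWeaklyRegular
  obtain ⟨g₀, hg₀, R₀, _, _, _, _, hAway₀, hgood₀⟩ := slice_list H A B q Bq hflat hs hmem hregSeq
  haveI := hAway₀
  -- the ideals agree at `q`
  have h𝔪ne : 𝔪 ≠ ⊤ := by
    intro h
    have : Subsingleton (Bq ⧸ 𝔪) := Ideal.Quotient.subsingleton_iff.mpr h
    exact not_subsingleton (Bq ⧸ 𝔪) this
  have hK'K : (Ideal.ofList hs).map (algebraMap B Bq) ≤ I.map (algebraMap B Bq) := by
    refine Ideal.map_mono ?_
    rw [Ideal.ofList, Ideal.span_le]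
    exact fun h hh => hmemI h hh
  haveI : Module.Flat (B ⧸ I) (Bq ⧸ I.map (algebraMap B Bq)) :=
    IsLocalization.flat _ (Algebra.algebraMapSubmonoid (B ⧸ I) q.primeCompl)
  haveI : Module.Flat A (Bq ⧸ I.map (algebraMap B Bq)) :=
    Module.Flat.trans A (B ⧸ I) (Bq ⧸ I.map (algebraMap B Bq))
  have hKK' : I.map (algebraMap B Bq) = (Ideal.ofList hs).map (algebraMap B Bq) := by
    refine eq_of_le_sup_map_of_flat A Bq (q.comap (algebraMap A B))
      (IsLocalRing.le_maximalIdeal h𝔪ne) _ _ hK'K (Ideal.FG.map hIfg _) ?_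
    have h1 : (I.map (algebraMap B Bq)).map (Ideal.Quotient.mk 𝔪) =
        ((Ideal.ofList hs).map (algebraMap B Bq)).map (Ideal.Quotient.mk 𝔪) := by
      rw [← hIπ, ← hgen, Ideal.map_map, Ideal.map_ofList]
    calc I.map (algebraMap B Bq)
        ≤ ((I.map (algebraMap B Bq)).map (Ideal.Quotient.mk 𝔪)).comap (Ideal.Quotient.mk 𝔪) :=
          Ideal.le_comap_map
      _ = (Ideal.ofList hs).map (algebraMap B Bq) ⊔ 𝔪 := by
          rw [h1, Ideal.comap_map_of_surjective _ Ideal.Quotient.mk_surjective,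
            ← RingHom.ker_eq_comap_bot, Ideal.mk_ker]
  obtain ⟨t, ht, htI⟩ := Groth.Agent.H39.RegSpread2.exists_mul_mem_of_map_le q Bq I
    (Ideal.ofList hs) hIfg hKK'.le
  -- the localization away from `g₀ t`
  have hr : algebraMap B R₀ t ∉ q.map (algebraMap B R₀) := by
    intro h
    have h1 : t ∈ (q.map (algebraMap B R₀)).comap (algebraMap B R₀) := h
    rw [comap_map_away q R₀ g₀ hg₀] at h1
    exact ht h1
  obtain ⟨g, hg, hAway⟩ := exists_away_of_away_away q R₀ g₀ hg₀ (algebraMap B R₀ t) hr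
    (Localization.Away (algebraMap B R₀ t))
  haveI := hAway
  refine ⟨g, hg, hs, hmemI, ?_⟩
  -- first on the model `R₂`
  have hlist₂ : (hs.map (algebraMap B R₀)).map
      (algebraMap R₀ (Localization.Away (algebraMap B R₀ t))) =
      hs.map (algebraMap B (Localization.Away (algebraMap B R₀ t))) := by
    rw [List.map_map]
    exact List.map_congr_left fun b _ =>
      (IsScalarTower.algebraMap_apply B R₀ (Localization.Away (algebraMap B R₀ t)) b).symm
  have hreg₂ : IsWeaklyRegular (Localization.Away (algebraMap B R₀ t))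
      (hs.map (algebraMap B (Localization.Away (algebraMap B R₀ t)))) := by
    rw [← hlist₂]
    exact hgood₀.1.of_isLocalization (Localization.Away (algebraMap B R₀ t))
      (Submonoid.powers (algebraMap B R₀ t))
  have hunit : IsUnit (algebraMap B (Localization.Away (algebraMap B R₀ t)) t) := by
    rw [IsScalarTower.algebraMap_apply B R₀ (Localization.Away (algebraMap B R₀ t))]
    exact IsLocalization.Away.algebraMap_isUnit (algebraMap B R₀ t)
  have hideal₂ : Ideal.ofList (hs.map (algebraMap B (Localization.Away (algebraMap B R₀ t)))) =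
      I.map (algebraMap B (Localization.Away (algebraMap B R₀ t))) := by
    rw [← Ideal.map_ofList]
    apply le_antisymm
    · refine Ideal.map_mono ?_
      rw [Ideal.ofList, Ideal.span_le]
      exact fun h hh => hmemI h hh
    · rw [Ideal.map_le_iff_le_comap]
      intro a ha
      rw [Ideal.mem_comap]
      have h1 : algebraMap B (Localization.Away (algebraMap B R₀ t)) (t * a) ∈
          (Ideal.ofList hs).map (algebraMap B (Localization.Away (algebraMap B R₀ t))) :=
        Ideal.mem_map_of_mem _ (htI a ha)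
      rw [map_mul] at h1
      exact (Ideal.unit_mul_mem_iff_mem _ hunit).mp h1
  intro Bg _ _ _
  let e : Localization.Away (algebraMap B R₀ t) ≃ₐ[B] Bg :=
    IsLocalization.algEquiv (Submonoid.powers g) _ _
  have hlist : (hs.map (algebraMap B (Localization.Away (algebraMap B R₀ t)))).map e =
      hs.map (algebraMap B Bg) := by
    rw [List.map_map]
    exact List.map_congr_left fun b _ => e.commutes b
  refine ⟨?_, ?_⟩
  · rw [← hlist]
    exact isWeaklyRegular_of_ringEquiv e.toRingEquiv _ hreg₂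
  · have h1 : Ideal.ofList (hs.map (algebraMap B Bg)) =
        (Ideal.ofList (hs.map (algebraMap B (Localization.Away (algebraMap B R₀ t))))).map
          (e : Localization.Away (algebraMap B R₀ t) →+* Bg) := by
      rw [Ideal.map_ofList]
      exact congrArg Ideal.ofList hlist.symm
    rw [h1, hideal₂, Ideal.map_map]
    congr 1
    ext b
    exact e.commutes b

/-- variant of `exists_away_regular` with the fibre ideal and the extended ideal as variables -/
theorem exists_away_regular' (H : Hyp4848.{u}) (A : Type u) [CommRing A]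
    (B : Type u) [CommRing B] [Algebra A B] [Algebra.FinitePresentation A B]
    (q : Ideal B) [q.IsPrime] (Bq : Type u) [CommRing Bq] [Algebra B Bq]
    [IsLocalization.AtPrime Bq q] [IsLocalRing Bq] [Algebra A Bq] [IsScalarTower A B Bq]
    (hflat : Module.Flat A Bq)
    (I : Ideal B) (hIq : I ≤ q) (hIfg : I.FG) [Module.Flat A (B ⧸ I)]
    (𝔪 : Ideal Bq) (h𝔪 : 𝔪 = (q.comap (algebraMap A B)).map (algebraMap A Bq))
    [IsRegularLocalRing (Bq ⧸ 𝔪)] (K : Ideal Bq) (hK : K = I.map (algebraMap B Bq))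
    (hrs : ∃ rs : List (Bq ⧸ 𝔪), IsRegular (Bq ⧸ 𝔪) rs ∧
      K.map (Ideal.Quotient.mk 𝔪) = Ideal.ofList rs) :
    ∃ g : B, g ∉ q ∧ ∃ hs : List B, (∀ h ∈ hs, h ∈ I) ∧
      ∀ (Bg : Type u) [CommRing Bg] [Algebra B Bg] [IsLocalization.Away g Bg],
        IsWeaklyRegular Bg (hs.map (algebraMap B Bg)) ∧
          Ideal.ofList (hs.map (algebraMap B Bg)) = I.map (algebraMap B Bg) := by
  subst h𝔪
  subst hK
  exact exists_away_regular H A B q Bq hflat I hIq hIfg hrs

/-- for a surjection `φ : L → M` and an ideal `𝔪` of `L`: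
`M ⧸ 𝔪 M ≃ (L ⧸ 𝔪) ⧸ (ker φ)(L ⧸ 𝔪)` -/
theorem nonempty_quotient_map_equiv {L M : Type u} [CommRing L] [CommRing M] (φ : L →+* M)
    (hφ : Function.Surjective φ) (𝔪 : Ideal L) :
    Nonempty ((M ⧸ 𝔪.map φ) ≃+*
      ((L ⧸ 𝔪) ⧸ (RingHom.ker φ).map (Ideal.Quotient.mk 𝔪))) := by
  let ψ₁ : L →+* M ⧸ 𝔪.map φ := (Ideal.Quotient.mk _).comp φ
  let ψ₂ : L →+* (L ⧸ 𝔪) ⧸ (RingHom.ker φ).map (Ideal.Quotient.mk 𝔪) :=
    (Ideal.Quotient.mk _).comp (Ideal.Quotient.mk 𝔪)
  have h₁ : Function.Surjective ψ₁ := Ideal.Quotient.mk_surjective.comp hφ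
  have h₂ : Function.Surjective ψ₂ :=
    Ideal.Quotient.mk_surjective.comp Ideal.Quotient.mk_surjective
  have hk₁ : RingHom.ker ψ₁ = 𝔪 ⊔ RingHom.ker φ := by
    rw [← RingHom.comap_ker, Ideal.mk_ker, Ideal.comap_map_of_surjective φ hφ,
      RingHom.ker_eq_comap_bot φ]
  have hk₂ : RingHom.ker ψ₂ = RingHom.ker φ ⊔ 𝔪 := by
    rw [← RingHom.comap_ker, Ideal.mk_ker,
      Ideal.comap_map_of_surjective _ Ideal.Quotient.mk_surjective, ← RingHom.ker_eq_comap_bot,
      Ideal.mk_ker]
  exact ⟨(RingHom.quotientKerEquivOfSurjective h₁).symm.trans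
    ((Ideal.quotEquivOfEq (by rw [hk₁, hk₂, sup_comm])).trans
      (RingHom.quotientKerEquivOfSurjective h₂))⟩

end Groth.Agent.H47.TransReg
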