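import Mathlib
import Groth.Prelude.Def_BlowUp2
import Groth.Agent.H49.FibreStalk
import Groth.Agent.H19.ComapAff

/-!
# The inverse image ideal on a fibre, at the level of local rings (helper47)
-/

open CategoryTheory AlgebraicGeometry TopologicalSpace
universe u
set_option autoImplicit false
set_option linter.style.haveILetI false
set_option linter.unusedSectionVars false

namespace Groth.Agent.H47.TransReg

open Groth.Agent.H49.FibreStalk

variable {X Y S : Scheme.{u}}

/-- `appLE` followed by a germ is the germ followed by the stalk map -/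
theorem appLE_germ (f : X ⟶ Y) (U : Y.Opens) (V : X.Opens) (e : V ≤ f ⁻¹ᵁ U) (x : X)
    (hx : x ∈ V) :
    f.appLE U V e ≫ X.presheaf.germ V x hx =
      Y.presheaf.germ U (f x) (e hx) ≫ f.stalkMap x := by
  rw [Scheme.Hom.germ_stalkMap, Scheme.Hom.appLE, Category.assoc, X.presheaf.germ_res]

/-- the stalk at a point `x'` of the fibre of the inverse image of an ideal sheaf `𝓘`, when
effective Cartier, gives a regular generator of the image of `𝓘_x` in `O_{X,x} ⧸ 𝔪_s O_{X,x}`. -/
theorem exists_isSMulRegular_of_isEffCartierIdeal_comap (φ : X ⟶ S) (𝓘 : X.IdealSheafData)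
    (s : S) (x' : φ.fiber s) (h : BlowUp.IsEffCartierIdeal (𝓘.comap (φ.fiberι s))) (x : X)
    (hx : φ.fiberι s x' = x) (U : X.affineOpens) (hxU : x ∈ U.1) :
    ∃ r : X.presheaf.stalk x ⧸ fibreIdeal φ x,
      IsSMulRegular (X.presheaf.stalk x ⧸ fibreIdeal φ x) r ∧
      ((𝓘.ideal U).map (X.presheaf.germ U.1 x hxU).hom).map
        (Ideal.Quotient.mk (fibreIdeal φ x)) = Ideal.span {r} := by
  subst hx
  obtain ⟨W', hx'W', t', ht', hJ'⟩ := h x'
  -- a basic open of `W'` inside the preimage of `U`
  obtain ⟨g', hg'le, hx'g'⟩ := W'.2.exists_basicOpen_le (V := (φ.fiberι s) ⁻¹ᵁ U.1)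
    ⟨x', hxU⟩ hx'W'
  have h1 := Groth.Agent.H19.ComapAff.ideal_comap_appLE (φ.fiberι s) 𝓘 U
    ((φ.fiber s).affineBasicOpen g') hg'le
  have h2 : (𝓘.comap (φ.fiberι s)).ideal ((φ.fiber s).affineBasicOpen g') =
      Ideal.span {((φ.fiber s).presheaf.map
        (homOfLE ((φ.fiber s).basicOpen_le g')).op).hom t'} := by
    rw [← Scheme.IdealSheafData.map_ideal_basicOpen, hJ', Ideal.map_span, Set.image_singleton]
  -- pass to the stalk at `x'`
  have h3 : ((𝓘.ideal U).map (X.presheaf.germ U.1 (φ.fiberι s x') hxU).hom).map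
      ((φ.fiberι s).stalkMap x').hom =
      Ideal.span {((φ.fiber s).presheaf.germ W'.1 x' hx'W').hom t'} := by
    have hcomp : (X.presheaf.germ U.1 (φ.fiberι s x') hxU ≫ (φ.fiberι s).stalkMap x').hom =
        ((φ.fiberι s).appLE U.1 ((φ.fiber s).basicOpen g') hg'le ≫
          (φ.fiber s).presheaf.germ ((φ.fiber s).basicOpen g') x' hx'g').hom := by
      rw [appLE_germ]
    rw [Ideal.map_map, ← CommRingCat.hom_comp, hcomp, CommRingCat.hom_comp, ← Ideal.map_map]
    have h1' : Ideal.map ((φ.fiberι s).appLE U.1 ((φ.fiber s).basicOpen g') hg'le).hom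
        (𝓘.ideal U) = (𝓘.comap (φ.fiberι s)).ideal ((φ.fiber s).affineBasicOpen g') := h1.symm
    rw [h1', h2, Ideal.map_span, Set.image_singleton]
    congr 2
    exact TopCat.Presheaf.germ_res_apply _ _ _ _ _
  -- the generator is a nonzerodivisor
  have hτ : ((φ.fiber s).presheaf.germ W'.1 x' hx'W').hom t' ∈
      nonZeroDivisors ((φ.fiber s).presheaf.stalk x') := by
    letI := TopCat.Presheaf.algebra_section_stalk (φ.fiber s).presheaf ⟨x', hx'W'⟩
    haveI := W'.2.isLocalization_stalk ⟨x', hx'W'⟩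
    exact IsLocalization.map_nonZeroDivisors_le
      (W'.2.primeIdealOf ⟨x', hx'W'⟩).asIdeal.primeCompl ((φ.fiber s).presheaf.stalk x')
      ⟨t', ht', rfl⟩
  -- transport to the quotient of the local ring of `X`
  have hε : ∀ a, quotientEquivStalkFiber φ s x' (Ideal.Quotient.mk _ a) =
      ((φ.fiberι s).stalkMap x').hom a := fun a => rfl
  refine ⟨(quotientEquivStalkFiber φ s x').symm
    (((φ.fiber s).presheaf.germ W'.1 x' hx'W').hom t'), ?_, ?_⟩
  · rw [isSMulRegular_iff_right_eq_zero_of_smul]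
    intro m hm
    have h4 := congrArg (quotientEquivStalkFiber φ s x') hm
    rw [smul_eq_mul, map_mul, RingEquiv.apply_symm_apply, map_zero] at h4
    have h5 := (mem_nonZeroDivisors_iff_right.mp hτ) _ (by rw [mul_comm]; exact h4)
    exact (quotientEquivStalkFiber φ s x').injective (by rw [h5, map_zero])
  · have h6 : (Ideal.Quotient.mk (fibreIdeal φ (φ.fiberι s x'))) =
        ((quotientEquivStalkFiber φ s x').symm : _ →+* _).comp ((φ.fiberι s).stalkMap x').hom := by
      ext a
      change _ = (quotientEquivStalkFiber φ s x').symm (((φ.fiberι s).stalkMap x').hom a)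
      rw [← hε, RingEquiv.symm_apply_apply]
    rw [h6, ← Ideal.map_map, h3, Ideal.map_span, Set.image_singleton]
    rfl

end Groth.Agent.H47.TransReg
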