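import Mathlib
import Groth.Agent.H47.TransReg.GenScheme
import Groth.Agent.H47.TransReg.FibreIdeal
import Groth.Agent.H49.CMChart

/-!
# Relative effective Cartier divisors: the fibrewise criterion (helper47)
-/

open CategoryTheory AlgebraicGeometry TopologicalSpace
universe u
set_option autoImplicit false
set_option linter.style.haveILetI false
set_option linter.unusedSectionVars false

namespace Groth.Agent.H47.TransReg

open RingTheory.Sequence IsLocalRing Groth.Agent.H47.CI Groth.Agent.H47.CMSlice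
  Groth.Agent.H49.FlatApprox Groth.Agent.H49.FibreStalk Groth.Agent.H49.SliceScheme
  Groth.Agent.H39.RegImmStalk

variable {X S : Scheme.{u}}

/-- away from its support an ideal sheaf is trivially effective Cartier -/
theorem exists_ideal_eq_span_one_of_notMem_support (𝓘 : X.IdealSheafData) (x : X)
    (hx : x ∉ 𝓘.support) :
    ∃ U : X.affineOpens, x ∈ U.1 ∧ ∃ f : Γ(X, U.1), f ∈ nonZeroDivisors Γ(X, U.1) ∧
      𝓘.ideal U = Ideal.span {f} := by
  obtain ⟨U₀, hU₀, hxU₀, -⟩ := Opens.isBasis_iff_nbhd.mp X.isBasis_affineOpens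
    (show x ∈ (⊤ : X.Opens) from trivial)
  have h1 : x ∉ X.zeroLocus (U := U₀) (𝓘.ideal ⟨U₀, hU₀⟩) := fun h =>
    hx ((Scheme.IdealSheafData.mem_support_iff_of_mem (U := ⟨U₀, hU₀⟩) hxU₀).mpr h)
  rw [Scheme.mem_zeroLocus_iff] at h1
  push Not at h1
  obtain ⟨s, hs, hxs⟩ := h1
  refine ⟨X.affineBasicOpen (U := ⟨U₀, hU₀⟩) s, hxs, 1, one_mem _, ?_⟩
  have hmap := 𝓘.map_ideal_basicOpen ⟨U₀, hU₀⟩ s
  have hunit : IsUnit ((X.presheaf.map (homOfLE (X.basicOpen_le s)).op).hom s) :=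
    RingedSpace.isUnit_res_basicOpen _ s
  rw [Ideal.span_singleton_one, ← hmap]
  exact Ideal.eq_top_of_isUnit_mem _ (Ideal.mem_map_of_mem _ hs) hunit

/-- **Fibrewise criterion for relative effective Cartier divisors.** -/
theorem isEffCartierIdeal_of_fibres (H : Hyp4848.{u}) (φ : X ⟶ S) [Flat φ]
    [LocallyOfFinitePresentation φ] (𝓘 : X.IdealSheafData) [Flat (𝓘.subschemeι ≫ φ)]
    [LocallyOfFinitePresentation (𝓘.subschemeι ≫ φ)]
    (hfib : ∀ s : S, BlowUp.IsEffCartierIdeal (𝓘.comap (φ.fiberι s))) :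
    BlowUp.IsEffCartierIdeal 𝓘 := by
  intro x
  by_cases hx : x ∈ 𝓘.support
  · obtain ⟨y, rfl⟩ : x ∈ Set.range 𝓘.subschemeι := by
      rw [𝓘.range_subschemeι]; exact hx
    obtain ⟨U, hU, hxU, -⟩ := Opens.isBasis_iff_nbhd.mp X.isBasis_affineOpens
      (show 𝓘.subschemeι y ∈ (⊤ : X.Opens) from trivial)
    obtain ⟨r, hr, hI⟩ := exists_isSMulRegular_of_isEffCartierIdeal_comap φ 𝓘
      (φ (𝓘.subschemeι y)) (φ.asFiber (𝓘.subschemeι y)) (hfib _) (𝓘.subschemeι y)
      (φ.fiberι_asFiber _) ⟨U, hU⟩ hxU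
    have hK : RingHom.ker (𝓘.subschemeι.stalkMap y).hom =
        (𝓘.ideal ⟨U, hU⟩).map (X.presheaf.germ U (𝓘.subschemeι y) hxU).hom := by
      have h1 := ker_stalkMap_eq 𝓘.subschemeι y ⟨U, hU⟩ hxU
      rw [𝓘.ker_subschemeι] at h1
      exact h1
    haveI : IsLocallyNoetherian (φ.fiber (φ (𝓘.subschemeι y))) :=
      Groth.Agent.H49.CMChart.isLocallyNoetherian_fiber φ _
    haveI : IsNoetherianRing (X.presheaf.stalk (𝓘.subschemeι y) ⧸
        fibreIdeal φ (𝓘.subschemeι y)) :=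
      Groth.Agent.H49.CMMor.isNoetherianRing_quotient_of_fiber φ _
    have hKle : RingHom.ker (𝓘.subschemeι.stalkMap y).hom ≤
        maximalIdeal (X.presheaf.stalk (𝓘.subschemeι y)) :=
      IsLocalRing.le_maximalIdeal (RingHom.ker_ne_top _)
    have hrm : r ∈ maximalIdeal (X.presheaf.stalk (𝓘.subschemeι y) ⧸
        fibreIdeal φ (𝓘.subschemeι y)) := by
      have h1 : r ∈ (RingHom.ker (𝓘.subschemeι.stalkMap y).hom).map
          (Ideal.Quotient.mk (fibreIdeal φ (𝓘.subschemeι y))) := by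
        rw [hK, hI]
        exact Ideal.mem_span_singleton_self r
      haveI : IsLocalHom (Ideal.Quotient.mk (fibreIdeal φ (𝓘.subschemeι y))) :=
        IsLocalHom.of_surjective _ Ideal.Quotient.mk_surjective
      refine Ideal.map_le_iff_le_comap.mpr (fun a ha => ?_) h1
      exact map_nonunit _ _ (hKle ha)
    have hreg : IsRegular (X.presheaf.stalk (𝓘.subschemeι y) ⧸
        fibreIdeal φ (𝓘.subschemeι y)) [r] :=
      IsRegular.of_isWeaklyRegular_of_mem_maximalIdeal _
        (fun a ha => by rw [List.mem_singleton.mp ha]; exact hrm)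
        ((isWeaklyRegular_singleton_iff _ _).mpr hr)
    obtain ⟨W, hxW, rs', hlen, hreg', hI'⟩ := regNear_of_isRegular_fibre_gen φ 𝓘.subschemeι H y
      (Flat.stalkMap φ _) [r] hreg (by
        rw [hK, hI, Ideal.ofList_singleton])
    obtain ⟨h, rfl⟩ : ∃ h, rs' = [h] := List.length_eq_one_iff.mp hlen
    refine ⟨W, hxW, h, ?_, ?_⟩
    · have h1 := (isWeaklyRegular_singleton_iff _ _).mp hreg'.toIsWeaklyRegular
      rw [mem_nonZeroDivisors_iff_right]
      intro m hm
      exact (isSMulRegular_iff_right_eq_zero_of_smul.mp h1) m (by rw [smul_eq_mul, mul_comm]; exact hm)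
    · rw [← 𝓘.ker_subschemeι, ← hI', Ideal.ofList_singleton]
  · exact exists_ideal_eq_span_one_of_notMem_support 𝓘 x hx

end Groth.Agent.H47.TransReg
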