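import Mathlib
import Groth.Prelude.Def_CurvBase
import Groth.Agent.H47.TransReg.EffCartier
import Groth.Agent.H8.RelCartier

/-!
# Locally principal ideals with effective Cartier fibres are relative effective Cartier (helper47)
-/

open CategoryTheory AlgebraicGeometry TopologicalSpace
universe u
set_option autoImplicit false
set_option linter.style.haveILetI false
set_option linter.unusedSectionVars false

namespace Groth.Agent.H47.TransReg

open RingTheory.Sequence IsLocalRing Groth.Agent.H47.CI Groth.Agent.H47.CMSlice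
  Groth.Agent.H49.FlatApprox Groth.Agent.H49.FibreStalk Groth.Agent.H49.SliceScheme
  Groth.Agent.H39.RegImmStalk

variable {X S : Scheme.{u}}

/-- the chart, given a principal chart inside the preimage of an affine open of the base. -/
theorem exists_chart_of_principal_chart (H : Hyp4848.{u}) (φ : X ⟶ S) [Flat φ]
    [LocallyOfFinitePresentation φ] (𝓘 : X.IdealSheafData)
    (hfib : ∀ s : S, BlowUp.IsEffCartierIdeal (𝓘.comap (φ.fiberι s))) (x : X)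
    (hx : x ∈ 𝓘.support) (V : S.Opens) (hV : IsAffineOpen V) (U₀ : X.Opens)
    (hU₀ : IsAffineOpen U₀) (hxU₀ : x ∈ U₀) (e₀ : U₀ ≤ φ ⁻¹ᵁ V) (f : Γ(X, U₀))
    (hI₀ : 𝓘.ideal ⟨U₀, hU₀⟩ = Ideal.span {f}) :
    ∃ (V : S.affineOpens) (W : X.affineOpens) (_ : x ∈ W.1) (e : W.1 ≤ φ ⁻¹ᵁ V.1),
      (∃ f₁ : Γ(X, W.1), f₁ ∈ nonZeroDivisors Γ(X, W.1) ∧ 𝓘.ideal W = Ideal.span {f₁}) ∧
      (letI := (φ.appLE V.1 W.1 e).hom.toAlgebra
       Module.Flat Γ(S, V.1) (Γ(X, W.1) ⧸ 𝓘.ideal W)) := by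
  letI algAB : Algebra Γ(S, V) Γ(X, U₀) := (φ.appLE V U₀ e₀).hom.toAlgebra
  have hfpU : (φ.appLE V U₀ e₀).hom.FinitePresentation :=
    HasRingHomProperty.appLE (P := @LocallyOfFinitePresentation) φ inferInstance ⟨V, hV⟩
      ⟨U₀, hU₀⟩ e₀
  haveI : Algebra.FinitePresentation Γ(S, V) Γ(X, U₀) := hfpU
  letI := TopCat.Presheaf.algebra_section_stalk X.presheaf ⟨x, hxU₀⟩
  haveI := hU₀.isLocalization_stalk ⟨x, hxU₀⟩
  letI algAq : Algebra Γ(S, V) (X.presheaf.stalk x) :=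
    ((X.presheaf.germ U₀ x hxU₀).hom.comp (φ.appLE V U₀ e₀).hom).toAlgebra
  haveI : IsScalarTower Γ(S, V) Γ(X, U₀) (X.presheaf.stalk x) :=
    IsScalarTower.of_algebraMap_eq (fun _ => rfl)
  have hflat' : Module.Flat Γ(S, V) (X.presheaf.stalk x) :=
    flat_stalk_of_flat_stalkMap φ x hV e₀ hxU₀ (Flat.stalkMap φ x)
  have hEq : fibreIdeal φ x =
      ((hU₀.primeIdealOf ⟨x, hxU₀⟩).asIdeal.comap (algebraMap Γ(S, V) Γ(X, U₀))).map
        (algebraMap Γ(S, V) (X.presheaf.stalk x)) := by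
    have h1 := fibreIdeal_eq φ x hV hU₀ e₀ hxU₀
    rw [Ideal.map_map] at h1
    exact h1
  -- the generator is regular on the fibre
  obtain ⟨r, hr, hIr⟩ := exists_isSMulRegular_of_isEffCartierIdeal_comap φ 𝓘
    (φ x) (φ.asFiber x) (hfib _) x (φ.fiberι_asFiber _) ⟨U₀, hU₀⟩ hxU₀
  rw [hI₀, Ideal.map_span, Set.image_singleton, Ideal.map_span, Set.image_singleton] at hIr
  have hrmem : r ∈ Ideal.span {Ideal.Quotient.mk (fibreIdeal φ x)
      ((X.presheaf.germ U₀ x hxU₀).hom f)} := by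
    rw [hIr]; exact Ideal.mem_span_singleton_self r
  obtain ⟨c, hc⟩ := Ideal.mem_span_singleton'.mp hrmem
  have hqreg : QReg (fibreIdeal φ x) ((X.presheaf.germ U₀ x hxU₀).hom f) := by
    intro a ha
    have h1 : Ideal.Quotient.mk (fibreIdeal φ x) ((X.presheaf.germ U₀ x hxU₀).hom f) *
        Ideal.Quotient.mk (fibreIdeal φ x) a = 0 := by
      rw [← map_mul]
      exact Ideal.Quotient.eq_zero_iff_mem.mpr ha
    have h2 : r • Ideal.Quotient.mk (fibreIdeal φ x) a = 0 := by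
      rw [smul_eq_mul, ← hc, mul_assoc, h1, mul_zero]
    exact Ideal.Quotient.eq_zero_iff_mem.mp
      ((isSMulRegular_iff_right_eq_zero_of_smul.mp hr) _ h2)
  have hregSeq : RegSeq (((hU₀.primeIdealOf ⟨x, hxU₀⟩).asIdeal.comap
      (algebraMap Γ(S, V) Γ(X, U₀))).map (algebraMap Γ(S, V) (X.presheaf.stalk x)))
      ([f].map (algebraMap Γ(X, U₀) (X.presheaf.stalk x))) := by
    rw [← hEq]
    exact ⟨hqreg, trivial⟩
  -- `f` vanishes at `x`
  have hfq : ∀ h ∈ [f], h ∈ (hU₀.primeIdealOf ⟨x, hxU₀⟩).asIdeal := by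
    intro h hh
    rw [List.mem_singleton.mp hh]
    by_contra hcon
    have h1 : x ∈ X.basicOpen f := by
      rw [X.mem_basicOpen f x hxU₀]
      exact (IsLocalization.AtPrime.isUnit_to_map_iff (X.presheaf.stalk x)
        (hU₀.primeIdealOf ⟨x, hxU₀⟩).asIdeal f).mpr hcon
    have h2 := (Scheme.IdealSheafData.mem_support_iff_of_mem (U := ⟨U₀, hU₀⟩) hxU₀).mp hx
    exact (X.mem_zeroLocus_iff _ x).mp h2 f
      (by rw [SetLike.mem_coe, hI₀]; exact Ideal.mem_span_singleton_self f) h1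
  obtain ⟨g, hg, R, _, _, _, _, hAway, hgood⟩ := slice_list H Γ(S, V) Γ(X, U₀)
    (hU₀.primeIdealOf ⟨x, hxU₀⟩).asIdeal (X.presheaf.stalk x) hflat' [f] hfq hregSeq
  haveI := hAway
  -- the chart `U₁ = D(g)`
  have hle₁ : X.basicOpen g ≤ U₀ := X.basicOpen_le g
  have hU₁ : IsAffineOpen (X.basicOpen g) := hU₀.basicOpen g
  have hx₁ : x ∈ X.basicOpen g := by
    rw [X.mem_basicOpen g x hxU₀]
    exact (IsLocalization.AtPrime.isUnit_to_map_iff (X.presheaf.stalk x)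
      (hU₀.primeIdealOf ⟨x, hxU₀⟩).asIdeal g).mpr hg
  have e₁ : X.basicOpen g ≤ φ ⁻¹ᵁ V := hle₁.trans e₀
  letI algABg : Algebra Γ(S, V) Γ(X, X.basicOpen g) := (φ.appLE V (X.basicOpen g) e₁).hom.toAlgebra
  haveI : IsScalarTower Γ(S, V) Γ(X, U₀) Γ(X, X.basicOpen g) :=
    IsScalarTower.of_algebraMap_eq (fun a => by
      change (φ.appLE V (X.basicOpen g) e₁).hom a =
        (X.presheaf.map (homOfLE hle₁).op).hom ((φ.appLE V U₀ e₀).hom a)
      rw [← Scheme.Hom.appLE_map φ e₀ (homOfLE hle₁).op]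
      rfl)
  haveI := hU₀.isLocalization_basicOpen g
  have hgood₁ : Good Γ(S, V) Γ(X, X.basicOpen g)
      ([f].map (algebraMap Γ(X, U₀) Γ(X, X.basicOpen g))) :=
    good_of_algEquiv Γ(S, V) Γ(X, U₀) [f] R Γ(X, X.basicOpen g)
      (IsLocalization.algEquiv (Submonoid.powers g) _ _) hgood
  have hI₁ : 𝓘.ideal (X.affineBasicOpen (U := ⟨U₀, hU₀⟩) g) =
      Ideal.span {algebraMap Γ(X, U₀) Γ(X, X.basicOpen g) f} := by
    have h1 := 𝓘.map_ideal_basicOpen ⟨U₀, hU₀⟩ g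
    rw [hI₀, Ideal.map_span, Set.image_singleton] at h1
    exact h1.symm
  refine ⟨⟨V, hV⟩, X.affineBasicOpen (U := ⟨U₀, hU₀⟩) g, hx₁, e₁,
    ⟨algebraMap Γ(X, U₀) Γ(X, X.basicOpen g) f, ?_, hI₁⟩, ?_⟩
  · have h1 := (isWeaklyRegular_singleton_iff _ _).mp hgood₁.1
    rw [mem_nonZeroDivisors_iff_right]
    intro m hm
    exact (isSMulRegular_iff_right_eq_zero_of_smul.mp h1) m
      (by rw [smul_eq_mul, mul_comm]; exact hm)
  · have h2 := hgood₁.2
    rw [List.map_singleton, Ideal.ofList_singleton, ← hI₁] at h2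
    exact h2

/-- the chart: near a point of the support, the principal generator is a nonzerodivisor and the
quotient is flat over the base. -/
theorem exists_chart_of_isLocPrincipal (H : Hyp4848.{u}) (φ : X ⟶ S) [Flat φ]
    [LocallyOfFinitePresentation φ] (𝓘 : X.IdealSheafData) (hZ : Curv2.IsLocPrincipal 𝓘)
    (hfib : ∀ s : S, BlowUp.IsEffCartierIdeal (𝓘.comap (φ.fiberι s))) (x : X)
    (hx : x ∈ 𝓘.support) :
    ∃ (V : S.affineOpens) (W : X.affineOpens) (_ : x ∈ W.1) (e : W.1 ≤ φ ⁻¹ᵁ V.1),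
      (∃ f₁ : Γ(X, W.1), f₁ ∈ nonZeroDivisors Γ(X, W.1) ∧ 𝓘.ideal W = Ideal.span {f₁}) ∧
      (letI := (φ.appLE V.1 W.1 e).hom.toAlgebra
       Module.Flat Γ(S, V.1) (Γ(X, W.1) ⧸ 𝓘.ideal W)) := by
  obtain ⟨U₀', hxU₀', f₀, hf₀⟩ := hZ x hx
  obtain ⟨V, hV, hfxV, -⟩ := Opens.isBasis_iff_nbhd.mp S.isBasis_affineOpens
    (show φ x ∈ (⊤ : S.Opens) from trivial)
  obtain ⟨t, htle, hxt⟩ := U₀'.2.exists_basicOpen_le (V := U₀'.1 ⊓ φ ⁻¹ᵁ V)
    ⟨x, ⟨hxU₀', hfxV⟩⟩ hxU₀'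
  have hI₀ : 𝓘.ideal ⟨X.basicOpen t, U₀'.2.basicOpen t⟩ = Ideal.span
      {(X.presheaf.map (homOfLE (X.basicOpen_le t)).op).hom f₀} := by
    have h1 := 𝓘.map_ideal_basicOpen U₀' t
    rw [hf₀, Ideal.map_span, Set.image_singleton] at h1
    exact h1.symm
  exact exists_chart_of_principal_chart H φ 𝓘 hfib x hx V hV (X.basicOpen t)
    (U₀'.2.basicOpen t) hxt (htle.trans inf_le_right) _ hI₀

/-- **S8848**, modulo S4848. -/
theorem isEffCartierIdeal_and_flat_of_isLocPrincipal (H : Hyp4848.{u}) (φ : X ⟶ S) [Flat φ]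
    [LocallyOfFinitePresentation φ] (𝓘 : X.IdealSheafData) (hZ : Curv2.IsLocPrincipal 𝓘)
    (hfib : ∀ s : S, BlowUp.IsEffCartierIdeal (𝓘.comap (φ.fiberι s))) :
    BlowUp.IsEffCartierIdeal 𝓘 ∧ Flat (𝓘.subschemeι ≫ φ) := by
  refine ⟨fun x => ?_, ?_⟩
  · by_cases hx : x ∈ 𝓘.support
    · obtain ⟨V, W, hxW, e, hW, -⟩ := exists_chart_of_isLocPrincipal H φ 𝓘 hZ hfib x hx
      exact ⟨W, hxW, hW⟩
    · exact exists_ideal_eq_span_one_of_notMem_support 𝓘 x hx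
  · apply Groth.Agent.H8.flat_subscheme_of_flat_quot
    intro x hx
    obtain ⟨V, W, hxW, e, -, hfl⟩ := exists_chart_of_isLocPrincipal H φ 𝓘 hZ hfib x hx
    exact ⟨V, W, hxW, e, hfl⟩

end Groth.Agent.H47.TransReg
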