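import Mathlib
import Groth.Prelude.Def_RegImm
import Groth.Prelude.Def_EGA4b
import Groth.Agent.H70.FlatAss.FibreReg

/-!
# Fibrewise regular sequences are transversally regular (noetherian local case) (helper47)
-/

set_option autoImplicit false
set_option linter.unusedSectionVars false
set_option linter.style.haveILetI false
universe u

namespace Groth.Agent.H47.TransReg

open RingTheory.Sequence IsLocalRing Groth.Agent.H70.FlatAss

variable {A B : Type u} [CommRing A] [CommRing B] [Algebra A B] [IsLocalRing A]
  [IsNoetherianRing A] [IsNoetherianRing B] [IsLocalRing B] [IsLocalHom (algebraMap A B)]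

/-- a sequence of `B` which is weakly regular on the closed fibre `M ⧸ 𝔪_A M` of a finite
`A`-flat `B`-module `M` is weakly regular on `M` with all partial quotients `A`-flat. -/
theorem isWeaklyRegular_and_flat_of_fibre :
    ∀ (rs : List B) (M : Type u) [AddCommGroup M] [Module B M] [Module A M] [IsScalarTower A B M]
      [Module.Finite B M] [Module.Flat A M],
      IsWeaklyRegular
        (M ⧸ ((maximalIdeal A).map (algebraMap A B) • (⊤ : Submodule B M))) rs →
      IsWeaklyRegular M rs ∧ ∀ j : ℕ, j ≤ rs.length →
        Module.Flat A (M ⧸ (Ideal.ofList (rs.take j) • (⊤ : Submodule B M))) := by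
  intro rs
  induction rs with
  | nil =>
    intro M _ _ _ _ _ _ _
    refine ⟨IsWeaklyRegular.nil B M, fun j _ => ?_⟩
    have h0 : (Ideal.ofList (([] : List B).take j) • (⊤ : Submodule B M)) = ⊥ := by
      rw [List.take_nil, Ideal.ofList_nil, Submodule.bot_smul]
    exact Module.Flat.of_linearEquiv
      ((Submodule.quotEquivOfEqBot _ h0).restrictScalars A)
  | cons r rs ih =>
    intro M _ _ _ _ _ _ h
    obtain ⟨h1, h2⟩ := (isWeaklyRegular_cons_iff _ r rs).mp h
    have hr : IsSMulRegular M r := isSMulRegular_of_fibre M r h1
    haveI : Module.Flat A (QuotSMulTop r M) := flat_quotSMulTop M r h1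
    have h3 : IsWeaklyRegular ((QuotSMulTop r M) ⧸
        ((maximalIdeal A).map (algebraMap A B) • (⊤ : Submodule B (QuotSMulTop r M)))) rs :=
      (LinearEquiv.isWeaklyRegular_congr (shuffle M _ r) rs).mp h2
    obtain ⟨ih1, ih2⟩ := ih (QuotSMulTop r M) h3
    refine ⟨(isWeaklyRegular_cons_iff _ r rs).mpr ⟨hr, ih1⟩, fun j hj => ?_⟩
    cases j with
    | zero =>
      have h0 : (Ideal.ofList ((r :: rs).take 0) • (⊤ : Submodule B M)) = ⊥ := by
        rw [List.take_zero, Ideal.ofList_nil, Submodule.bot_smul]
      exact Module.Flat.of_linearEquiv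
        ((Submodule.quotEquivOfEqBot _ h0).restrictScalars A)
    | succ j =>
      have hj' : j ≤ rs.length := by simpa using hj
      haveI := ih2 j hj'
      rw [List.take_succ_cons]
      exact Module.Flat.of_linearEquiv
        ((Submodule.quotOfListConsSMulTopEquivQuotSMulTopInner M r (rs.take j)).restrictScalars A)

end Groth.Agent.H47.TransReg
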