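import Mathlib
import Groth.Prelude.Def_Pi1
import Groth.Agent.H47.TransReg.NoethTrans
import Groth.Agent.H47.TransReg.KoszulBC
import Groth.Agent.H47.TransReg.Ring
import Groth.Agent.H47.CI.AbsCITransfer

/-!
# Transversally regular generators ↔ flat with complete-intersection fibre (noetherian local)
(helper47)
-/

set_option autoImplicit false
set_option linter.unusedSectionVars false
set_option linter.style.haveILetI false
universe u

namespace Groth.Agent.H47.TransReg

open RingTheory.Sequence IsLocalRing Groth.Agent.H47.CI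

variable (A C : Type u) [CommRing A] [IsLocalRing A] [IsNoetherianRing A] [CommRing C]
  [IsLocalRing C] [IsNoetherianRing C] [Algebra A C] [IsLocalHom (algebraMap A C)]

/-- ring form of `isWeaklyRegular_and_flat_of_fibre` -/
theorem isTransRegularSeq_of_fibre [Module.Flat A C] (hs : List C)
    (hreg : IsWeaklyRegular (EGA4.FibRing A C) (hs.map (Ideal.Quotient.mk (EGA4.mB A C)))) :
    RegImm.IsTransRegularSeq A C hs := by
  have h1 : IsWeaklyRegular (C ⧸ EGA4.mB A C) hs :=
    (isWeaklyRegular_map_algebraMap_iff (C ⧸ EGA4.mB A C) (C ⧸ EGA4.mB A C) hs).mp hreg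
  have hsm : ∀ I : Ideal C, (I • (⊤ : Submodule C C)) = I := fun I => by
    rw [smul_eq_mul, Ideal.mul_top]
  have h2 : IsWeaklyRegular (C ⧸ ((maximalIdeal A).map (algebraMap A C) •
      (⊤ : Submodule C C))) hs :=
    (LinearEquiv.isWeaklyRegular_congr (Submodule.quotEquivOfEq _ _ (hsm _)) hs).mpr h1
  obtain ⟨w, fl⟩ := isWeaklyRegular_and_flat_of_fibre hs C h2
  refine ⟨w, fun j hj => ?_⟩
  haveI := fl j hj
  exact Module.Flat.of_linearEquiv
    ((Submodule.quotEquivOfEq _ _ (hsm (Ideal.ofList (hs.take j)))).symm.restrictScalars A)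

variable (B : Type u) [CommRing B] [IsLocalRing B] [Algebra C B] [Algebra A B]
  [IsScalarTower A C B] [IsLocalHom (algebraMap A B)]

/-- **EGA IV 19.3.7-type statement** (S5068): for `A → C` flat local with regular closed fibre and
`B = C ⧸ J` local, `J` has a transversally regular generating sequence iff `B` is `A`-flat with
complete-intersection closed fibre. -/
theorem exists_transRegularSeq_iff [Module.Flat A C]
    (hreg : IsRegularLocalRing (EGA4.FibRing A C))
    (hsurj : Function.Surjective (algebraMap C B)) :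
    (∃ rs : List C, Ideal.ofList rs = RingHom.ker (algebraMap C B) ∧
        RegImm.IsTransRegularSeq A C rs) ↔
      (Module.Flat A B ∧ Pi1.IsCompleteIntersection (EGA4.FibRing A B)) := by
  haveI := hreg
  -- `B` as a quotient of `C`, over `A`
  have hsurjA : Function.Surjective (IsScalarTower.toAlgHom A C B) := hsurj
  have hker : RingHom.ker (IsScalarTower.toAlgHom A C B) = RingHom.ker (algebraMap C B) := by
    ext c
    simp [RingHom.mem_ker]
  let eA : (C ⧸ RingHom.ker (algebraMap C B)) ≃ₐ[A] B :=
    (Ideal.quotientEquivAlgOfEq A hker.symm).trans (Ideal.quotientKerAlgEquivOfSurjective hsurjA)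
  have hflat_iff : Module.Flat A B ↔ Module.Flat A (C ⧸ RingHom.ker (algebraMap C B)) :=
    ⟨fun _ => Module.Flat.of_linearEquiv eA.toLinearEquiv,
      fun _ => Module.Flat.of_linearEquiv eA.symm.toLinearEquiv⟩
  -- the closed fibre of `B` as a quotient of the closed fibre of `C`
  have hmB : EGA4.mB A B = (EGA4.mB A C).map (algebraMap C B) := by
    rw [EGA4.mB, EGA4.mB, Ideal.map_map, ← IsScalarTower.algebraMap_eq]
  obtain ⟨e₀⟩ := nonempty_quotient_map_equiv (algebraMap C B) hsurj (EGA4.mB A C)
  let e : EGA4.FibRing A B ≃+* ((EGA4.FibRing A C) ⧸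
      (RingHom.ker (algebraMap C B)).map (Ideal.Quotient.mk (EGA4.mB A C))) :=
    (Ideal.quotEquivOfEq hmB).trans e₀
  haveI : IsLocalRing ((EGA4.FibRing A C) ⧸
      (RingHom.ker (algebraMap C B)).map (Ideal.Quotient.mk (EGA4.mB A C))) :=
    e.isLocalRing
  have hJle : RingHom.ker (algebraMap C B) ≤ maximalIdeal C :=
    IsLocalRing.le_maximalIdeal (RingHom.ker_ne_top _)
  have hmle : (maximalIdeal A).map (algebraMap A C) ≤ maximalIdeal C :=
    IsLocalRing.map_maximalIdeal_le (algebraMap A C)
  constructor
  · rintro ⟨rs, hrsJ, hw, hfl⟩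
    haveI hflJ : Module.Flat A (C ⧸ RingHom.ker (algebraMap C B)) := by
      have := hfl rs.length le_rfl
      rw [List.take_length, hrsJ] at this
      exact this
    refine ⟨hflat_iff.mpr hflJ, ?_⟩
    have hmem : ∀ r ∈ rs, r ∈ maximalIdeal C := fun r hr =>
      hJle (hrsJ ▸ Ideal.subset_span hr)
    have hregC : IsRegular C rs := IsRegular.of_isWeaklyRegular_of_mem_maximalIdeal _ hmem hw
    have hregF := isRegular_map_mk_of_flat A C (maximalIdeal A) (EGA4.mB A C) rfl rs hregC
      (RingHom.ker (algebraMap C B)) hrsJ.symm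
    have hCI : Pi1.IsCompleteIntersection ((EGA4.FibRing A C) ⧸
        (RingHom.ker (algebraMap C B)).map (Ideal.Quotient.mk (EGA4.mB A C))) :=
      isCompleteIntersection_quotient_of_isRegular _ _
        ⟨_, hregF, by rw [← hrsJ, Ideal.map_ofList]⟩
    exact isCompleteIntersection_of_ringEquiv e.symm hCI
  · rintro ⟨hflB, hCI⟩
    haveI hflJ : Module.Flat A (C ⧸ RingHom.ker (algebraMap C B)) := hflat_iff.mp hflB
    have hCI' : Pi1.IsCompleteIntersection ((EGA4.FibRing A C) ⧸
        (RingHom.ker (algebraMap C B)).map (Ideal.Quotient.mk (EGA4.mB A C))) :=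
      isCompleteIntersection_of_ringEquiv e hCI
    have hrs := exists_isRegular_of_isCompleteIntersection_quotient _ _ hCI'
    obtain ⟨hs, hmemJ, hregF, hgen⟩ := exists_list_of_isRegular (RingHom.ker (algebraMap C B))
      (EGA4.FibRing A C) (Ideal.Quotient.mk (EGA4.mB A C)) hrs
    have hle : Ideal.ofList hs ≤ RingHom.ker (algebraMap C B) := by
      rw [Ideal.ofList, Ideal.span_le]
      exact fun h hh => hmemJ h hh
    have hJ : RingHom.ker (algebraMap C B) = Ideal.ofList hs := by
      refine eq_of_le_sup_map_of_flat A C (maximalIdeal A) hmle _ _ hle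
        (IsNoetherian.noetherian _) ?_
      calc RingHom.ker (algebraMap C B)
          ≤ ((RingHom.ker (algebraMap C B)).map (Ideal.Quotient.mk (EGA4.mB A C))).comap
              (Ideal.Quotient.mk (EGA4.mB A C)) := Ideal.le_comap_map
        _ = Ideal.ofList hs ⊔ (maximalIdeal A).map (algebraMap A C) := by
            rw [← hgen, ← Ideal.map_ofList,
              Ideal.comap_map_of_surjective _ Ideal.Quotient.mk_surjective,
              ← RingHom.ker_eq_comap_bot, Ideal.mk_ker]
    exact ⟨hs, hJ.symm, isTransRegularSeq_of_fibre A C hs hregF.toIsWeaklyRegular⟩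

end Groth.Agent.H47.TransReg
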